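import Groth.Agent.H98EqInt.Quot
import Groth.Agent.Props58.Comp
import Groth.Prelude.Def_Pi1

/-!
A geometric quotient of a normal integral scheme is normal.
-/

set_option autoImplicit false
set_option maxHeartbeats 400000

universe u

open CategoryTheory Limits MonoidalCategory CartesianMonoidalCategory AlgebraicGeometry TopologicalSpace

namespace Groth.Agent.H98EqInt

/-- A rational function on an integral normal scheme integral over the sections is a section. -/
theorem exists_section_mul_eq {X : Scheme.{u}} [IsIntegral X] (hX : Pi1.IsNormalScheme X)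
    (V : X.Opens) (hVne : Nonempty V) {R : Type u} [CommRing R] [IsDomain R] (ψ : R →+* Γ(X, V))
    (hψ : Function.Injective ψ) (a b : R) (hb : b ≠ 0)
    (hint : IsIntegral R (algebraMap R (FractionRing R) a / algebraMap R (FractionRing R) b)) :
    ∃ f : Γ(X, V), ψ b * f = ψ a := by
  classical
  let ι := {W : X.affineOpens // (W : X.Opens) ≤ V ∧ Nonempty (W : X.Opens)}
  have hb' : ∀ W : ι, X.presheaf.map (homOfLE W.2.1).op (ψ b) ≠ 0 := by
    intro W h0
    obtain ⟨w⟩ := W.2.2
    refine hb (hψ (germ_injective_of_isIntegral X w.1 (show w.1 ∈ V from W.2.1 w.2) ?_))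
    rw [← TopCat.Presheaf.germ_res_apply X.presheaf (homOfLE W.2.1) w.1 w.2, h0, map_zero, map_zero, map_zero]
  have loc : ∀ W : ι, ∃ g : Γ(X, (W.1 : X.Opens)),
      X.presheaf.map (homOfLE W.2.1).op (ψ b) * g = X.presheaf.map (homOfLE W.2.1).op (ψ a) := by
    intro W
    haveI : Nonempty (W.1 : X.Opens) := W.2.2
    haveI : IsIntegrallyClosed Γ(X, (W.1 : X.Opens)) :=
      (Props58.isNormalScheme_iff X).mp hX W.1 W.1.2
    haveI := functionField_isFractionRing_of_isAffineOpen X W.1 W.1.2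
    let ρ : R →+* Γ(X, (W.1 : X.Opens)) := (X.presheaf.map (homOfLE W.2.1).op).hom.comp ψ
    let j : R →+* X.functionField := (algebraMap Γ(X, (W.1 : X.Opens)) X.functionField).comp ρ
    have hj : Function.Injective j := by
      rw [injective_iff_map_eq_zero]
      intro r hr
      have h1 : ρ r = 0 := (IsFractionRing.injective Γ(X, (W.1 : X.Opens)) X.functionField) (hr.trans (map_zero _).symm)
      by_contra hr0
      obtain ⟨w⟩ := W.2.2
      refine hr0 (hψ (germ_injective_of_isIntegral X w.1 (show w.1 ∈ V from W.2.1 w.2) ?_))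
      rw [← TopCat.Presheaf.germ_res_apply X.presheaf (homOfLE W.2.1) w.1 w.2]
      change X.presheaf.germ _ _ _ (ρ r) = _
      rw [h1, map_zero, map_zero, map_zero]
    let L : FractionRing R →+* X.functionField := IsFractionRing.lift hj
    have hL : ∀ r, L (algebraMap R (FractionRing R) r) = j r := IsFractionRing.lift_algebraMap hj
    obtain ⟨p, hp, hp0⟩ := hint
    have : IsIntegral Γ(X, (W.1 : X.Opens)) (L (algebraMap R (FractionRing R) a / algebraMap R (FractionRing R) b)) := by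
      refine ⟨p.map ρ, hp.map ρ, ?_⟩
      rw [Polynomial.eval₂_map, show (algebraMap Γ(X, (W.1 : X.Opens)) X.functionField).comp ρ =
        L.comp (algebraMap R (FractionRing R)) from RingHom.ext fun r => (hL r).symm,
        ← Polynomial.hom_eval₂, hp0, map_zero]
    obtain ⟨g, hg⟩ := IsIntegrallyClosed.isIntegral_iff.mp this
    refine ⟨g, IsFractionRing.injective Γ(X, (W.1 : X.Opens)) X.functionField ?_⟩
    rw [map_mul, hg, map_div₀, hL, hL]
    exact mul_div_cancel₀ _ fun h0 => hb (hj (h0.trans (map_zero _).symm))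
  choose g hg using loc
  have hcompat : X.presheaf.IsCompatible (fun W : ι => (W.1 : X.Opens)) g := by
    intro W₁ W₂
    refine X.IsSheaf.section_ext fun w hw => ?_
    obtain ⟨_, ⟨T, hT, rfl⟩, hwT, hTle⟩ := X.isBasis_affineOpens.exists_subset_of_mem_open hw
      (((W₁.1 : X.Opens) ⊓ (W₂.1 : X.Opens)).2)
    refine ⟨T, hTle, hwT, ?_⟩
    have hne : Nonempty T := ⟨⟨w, hwT⟩⟩
    let W₃ : ι := ⟨⟨T, hT⟩, (hTle.trans (inf_le_left (b := (W₂.1 : X.Opens)))).trans W₁.2.1, hne⟩
    haveI : Nonempty T := hne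
    refine mul_left_cancel₀ (hb' W₃) ?_
    rw [← CommRingCat.comp_apply, ← CommRingCat.comp_apply, ← Functor.map_comp, ← Functor.map_comp]
    have e1 := congrArg (X.presheaf.map (homOfLE (hTle.trans (inf_le_left (b := (W₂.1 : X.Opens))))).op) (hg W₁)
    have e2 := congrArg (X.presheaf.map (homOfLE (hTle.trans (inf_le_right (a := (W₁.1 : X.Opens))))).op) (hg W₂)
    rw [map_mul, ← CommRingCat.comp_apply, ← CommRingCat.comp_apply, ← Functor.map_comp] at e1 e2
    exact e1.trans e2.symm
  have hcover : V ≤ iSup fun W : ι => (W.1 : X.Opens) := by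
    intro v hv
    obtain ⟨_, ⟨T, hT, rfl⟩, hvT, hTle⟩ := X.isBasis_affineOpens.exists_subset_of_mem_open hv V.2
    exact Opens.mem_iSup.mpr ⟨⟨⟨T, hT⟩, hTle, ⟨⟨v, hvT⟩⟩⟩, hvT⟩
  obtain ⟨f, hf, -⟩ := X.sheaf.existsUnique_gluing' _ V (fun W : ι => homOfLE W.2.1) hcover g hcompat
  refine ⟨f, ?_⟩
  refine X.sheaf.eq_of_locally_eq' _ V (fun W : ι => homOfLE W.2.1) hcover _ _ fun W => ?_
  change X.presheaf.map (homOfLE W.2.1).op (ψ b * (show Γ(X, V) from f)) = X.presheaf.map (homOfLE W.2.1).op (ψ a)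
  rw [map_mul]
  erw [hf W]
  exact hg W

variable {S : Scheme.{u}} {G X Y : Over S} [GrpObj G] {a : AlgGrp.Action G X} {φ : X ⟶ Y}

theorem isInvSection_of_mul [IsIntegral X.left] [Flat (snd G X).left] (U : Y.left.Opens)
    (c f : Γ(X.left, φ.left ⁻¹ᵁ U)) (hc0 : c ≠ 0) (hc : GIT.IsInvSection a φ U c)
    (hcf : GIT.IsInvSection a φ U (c * f)) : GIT.IsInvSection a φ U f := by
  rw [GIT.IsInvSection] at hc hcf ⊢
  rw [map_mul, map_mul, hc] at hcf
  refine TopCat.Presheaf.section_ext (G ⊗ X).left.sheaf _ _ _ fun w hw => ?_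
  have hreg : IsSMulRegular ((G ⊗ X).left.presheaf.stalk w)
      ((snd G X).left.stalkMap w (X.left.presheaf.germ (φ.left ⁻¹ᵁ U) _ hw.2 c)) := by
    algebraize [((snd G X).left.stalkMap w).hom]
    haveI : Module.Flat (X.left.presheaf.stalk ((snd G X).left w)) ((G ⊗ X).left.presheaf.stalk w) :=
      Flat.stalkMap (snd G X).left w
    have h0 : X.left.presheaf.germ (φ.left ⁻¹ᵁ U) _ hw.2 c ≠ 0 := fun h =>
      hc0 (germ_injective_of_isIntegral X.left _ hw.2 (h.trans (map_zero _).symm))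
    have := IsSMulRegular.of_flat (S := (G ⊗ X).left.presheaf.stalk w) (IsSMulRegular.of_ne_zero h0)
    exact this
  refine hreg ?_
  simp only [smul_eq_mul]
  have e : ∀ (z : Γ(X.left, φ.left ⁻¹ᵁ U)),
      (G ⊗ X).left.presheaf.germ _ w hw ((snd G X).left.appLE (φ.left ⁻¹ᵁ U) _ inf_le_right z) =
        (snd G X).left.stalkMap w (X.left.presheaf.germ (φ.left ⁻¹ᵁ U) _ hw.2 z) := fun z => by
    rw [Scheme.Hom.germ_stalkMap_apply, Scheme.Hom.appLE, CommRingCat.comp_apply,
      TopCat.Presheaf.germ_res_apply]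
  have := congrArg ((G ⊗ X).left.presheaf.germ _ w hw) hcf
  rw [map_mul, map_mul, e c] at this
  exact this

theorem isNormalScheme_of_isGeomQuot [IsIntegral X.left] [Flat (snd G X).left]
    (hX : Pi1.IsNormalScheme X.left) (h : GIT.IsGeomQuot a φ) : Pi1.IsNormalScheme Y.left := by
  intro y
  obtain ⟨U, hU, hyU, -⟩ := exists_isAffineOpen_mem_and_subset (X := Y.left) (x := y) (U := ⊤) trivial
  obtain ⟨x, rfl⟩ := h.surj y
  haveI hVne : Nonempty (φ.left ⁻¹ᵁ U) := ⟨⟨x, hyU⟩⟩
  have hinj := (h.sections U).1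
  haveI : IsDomain Γ(Y.left, U) := hinj.isDomain (φ.left.app U).hom
  haveI : IsIntegrallyClosed Γ(Y.left, U) := by
    refine (isIntegrallyClosed_iff (FractionRing Γ(Y.left, U))).mpr fun {z} hz => ?_
    obtain ⟨p, q, hq, rfl⟩ := IsFractionRing.div_surjective (A := Γ(Y.left, U)) z
    have hq0 : q ≠ 0 := nonZeroDivisors.ne_zero hq
    obtain ⟨f, hf⟩ := exists_section_mul_eq hX _ hVne (φ.left.app U).hom hinj p q hq0 hz
    have hfinv : GIT.IsInvSection a φ U f :=
      isInvSection_of_mul U (φ.left.app U q) f (fun h0 => hq0 (hinj (h0.trans (map_zero _).symm)))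
        (isInvSection_app h.inv U q) (by
          rw [show φ.left.app U q * f = φ.left.app U p from hf]
          exact isInvSection_app h.inv U p)
    obtain ⟨t, ht⟩ := (Set.ext_iff.mp (h.sections U).2 f).mpr hfinv
    have hqt : q * t = p := hinj (by rw [map_mul, ht]; exact hf)
    refine ⟨t, ?_⟩
    rw [← hqt, map_mul, mul_div_cancel_left₀]
    exact fun h0 => hq0 ((IsFractionRing.injective _ _) (h0.trans (map_zero _).symm))
  let := TopCat.Presheaf.algebra_section_stalk Y.left.presheaf ⟨φ.left x, hyU⟩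
  have := hU.isLocalization_stalk ⟨φ.left x, hyU⟩
  exact ⟨IsLocalization.isDomain_of_le_nonZeroDivisors _ (Ideal.primeCompl_le_nonZeroDivisors
      (hU.primeIdealOf ⟨φ.left x, hyU⟩).asIdeal),
    isIntegrallyClosed_of_isLocalization (Y.left.presheaf.stalk (φ.left x))
      (hU.primeIdealOf ⟨φ.left x, hyU⟩).asIdeal.primeCompl (Ideal.primeCompl_le_nonZeroDivisors _)⟩

end Groth.Agent.H98EqInt
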