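import Groth.Agent.H98EqInt.Descend

/-!
Descent of universal geometric quotients; induced actions on base changes.
-/

set_option autoImplicit false
set_option maxHeartbeats 400000

universe u

open CategoryTheory Limits MonoidalCategory CartesianMonoidalCategory MonObj AlgebraicGeometry

namespace Groth.Agent.H98EqInt

variable {S : Scheme.{u}} {G X Y : Over S} [GrpObj G] {a : AlgGrp.Action G X} {φ : X ⟶ Y}

/-- The induced action on a base change of an invariant morphism. -/
noncomputable def bcAction (hinv : GIT.IsInvariant a φ) {P Y' : Over S} {p : P ⟶ X} {q : P ⟶ Y'}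
    {g : Y' ⟶ Y} (h : IsPullback p q φ g) : AlgGrp.Action G P where
  act := h.lift ((G ◁ p) ≫ a.act) (snd G P ≫ q) (by
    rw [Category.assoc, hinv, whiskerLeft_snd_assoc, h.w, Category.assoc])
  one_act := by
    apply h.hom_ext
    · rw [Category.assoc, h.lift_fst, ← whisker_exchange_assoc, a.one_act]
      exact (leftUnitor_naturality p)
    · rw [Category.assoc, h.lift_snd, whiskerRight_snd_assoc]
      rfl
  mul_act := by
    apply h.hom_ext
    · simp only [Category.assoc, h.lift_fst]
      rw [← whisker_exchange_assoc, a.mul_act, ← whiskerLeft_comp_assoc G, h.lift_fst,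
        whiskerLeft_comp_assoc, associator_naturality_right_assoc]
    · simp only [Category.assoc, h.lift_snd]
      simp

theorem bcAction_act_fst (hinv : GIT.IsInvariant a φ) {P Y' : Over S} {p : P ⟶ X} {q : P ⟶ Y'}
    {g : Y' ⟶ Y} (h : IsPullback p q φ g) : (bcAction hinv h).act ≫ p = (G ◁ p) ≫ a.act :=
  h.lift_fst _ _ _

theorem bcAction_invariant (hinv : GIT.IsInvariant a φ) {P Y' : Over S} {p : P ⟶ X} {q : P ⟶ Y'}
    {g : Y' ⟶ Y} (h : IsPullback p q φ g) : GIT.IsInvariant (bcAction hinv h) q :=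
  h.lift_snd _ _ _

theorem isUnivGeomQuot_descend (hinv : GIT.IsInvariant a φ) [QuasiCompact φ.left]
    {X' Y' : Over S} (α : Y' ⟶ Y) [Flat α.left] [Surjective α.left] [QuasiCompact α.left]
    (pr : X' ⟶ X) (φ' : X' ⟶ Y') (hpb : IsPullback pr φ' φ α)
    (a' : AlgGrp.Action G X') (heq : a'.act ≫ pr = (G ◁ pr) ≫ a.act)
    (h : GIT.IsUnivGeomQuot a' φ') : GIT.IsUnivGeomQuot a φ := by
  refine ⟨isGeomQuot_descend hinv α pr φ' hpb a' heq h.1, ?_⟩
  intro X₁ Y₁ pr₁ φ₁ g _ hpb₁ a₁ heq₁ hinv₁
  have hsq := IsPullback.of_hasPullback g α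
  have hsq' := IsPullback.of_hasPullback φ₁ (pullback.fst g α)
  let q : pullback φ₁ (pullback.fst g α) ⟶ X' :=
    hpb.lift (pullback.fst φ₁ _ ≫ pr₁) (pullback.snd φ₁ _ ≫ pullback.snd g α) (by
      rw [Category.assoc, hpb₁.w, pullback.condition_assoc, hsq.w, Category.assoc])
  have hbig := hsq'.flip.paste_vert hpb₁.flip
  rw [hsq.w] at hbig
  have hq : q ≫ pr = pullback.fst φ₁ _ ≫ pr₁ := hpb.lift_fst _ _ _
  rw [← hq] at hbig
  have htop := IsPullback.of_bot hbig (hpb.lift_snd _ _ _).symm hpb.flip
  let a'' := bcAction hinv₁ hsq'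
  have e1 : a''.act ≫ q = (G ◁ q) ≫ a'.act := by
    apply hpb.hom_ext
    · rw [Category.assoc, hq, ← Category.assoc, bcAction_act_fst, Category.assoc, heq₁, Category.assoc,
        heq, ← whiskerLeft_comp_assoc, ← whiskerLeft_comp_assoc, hq]
    · rw [Category.assoc, hpb.lift_snd, ← Category.assoc, bcAction_invariant hinv₁ hsq', Category.assoc,
        Category.assoc, h.1.inv, whiskerLeft_snd_assoc, hpb.lift_snd]
  have hgeom := h.2 q (pullback.snd φ₁ _) (pullback.snd g α) trivial htop.flip a'' e1
    (bcAction_invariant hinv₁ hsq')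
  have hsqL : IsPullback (pullback.fst g α).left (pullback.snd g α).left g.left α.left :=
    hsq.map (Over.forget S)
  haveI : Flat (pullback.fst g α).left := MorphismProperty.of_isPullback (P := @Flat) hsqL.flip ‹_›
  haveI : Surjective (pullback.fst g α).left := MorphismProperty.of_isPullback (P := @Surjective) hsqL.flip ‹_›
  haveI : QuasiCompact (pullback.fst g α).left := MorphismProperty.of_isPullback (P := @QuasiCompact) hsqL.flip ‹_›
  haveI : QuasiCompact φ₁.left :=
    MorphismProperty.of_isPullback (P := @QuasiCompact) (hpb₁.map (Over.forget S)) ‹_›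
  exact isGeomQuot_descend hinv₁ (pullback.fst g α) (pullback.fst φ₁ _) (pullback.snd φ₁ _) hsq' a''
    (bcAction_act_fst hinv₁ hsq') hgeom

end Groth.Agent.H98EqInt
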