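import Mathlib.AlgebraicGeometry.Sites.Fpqc
import Mathlib.AlgebraicGeometry.Morphisms.SchemeTheoreticallyDominant
import Mathlib.Algebra.MvPolynomial.CommRing

/-!
Descent of sections of the structure sheaf along flat surjective quasi-compact morphisms.
-/

set_option autoImplicit false
set_option maxHeartbeats 400000

universe u

open CategoryTheory Limits AlgebraicGeometry

namespace Groth.Agent.H98EqInt

/-- The universal ring of one variable. -/
noncomputable abbrev lineRing : CommRingCat.{u} := CommRingCat.of (MvPolynomial PUnit.{u + 1} (ULift.{u} ℤ))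

/-- The morphism to the affine line of a global function. -/
noncomputable def toLine {X : Scheme.{u}} (s : Γ(X, ⊤)) : X ⟶ Spec lineRing :=
  X.toSpecΓ ≫ Spec.map (CommRingCat.ofHom (MvPolynomial.eval₂Hom
    ((Int.castRingHom Γ(X, ⊤)).comp ULift.ringEquiv.toRingHom) fun _ => s))

theorem toLine_appTop {X : Scheme.{u}} (s : Γ(X, ⊤)) :
    (toLine s).appTop ((Scheme.ΓSpecIso lineRing).inv (MvPolynomial.X PUnit.unit)) = s := by
  rw [toLine, Scheme.Hom.comp_appTop, CommRingCat.comp_apply]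
  rw [← CommRingCat.comp_apply (Scheme.ΓSpecIso lineRing).inv, ← Scheme.ΓSpecIso_inv_naturality,
    ← CommRingCat.comp_apply, Scheme.toSpecΓ_appTop, Category.assoc, Iso.inv_hom_id,
    Category.comp_id]
  exact MvPolynomial.eval₂Hom_X' _ _ _

theorem comp_toLine {X Y : Scheme.{u}} (f : X ⟶ Y) (s : Γ(Y, ⊤)) :
    f ≫ toLine s = toLine (f.appTop s) := by
  rw [toLine, ← Category.assoc, Scheme.toSpecΓ_naturality, Category.assoc, ← Spec.map_comp, toLine]
  congr 2
  ext1
  apply MvPolynomial.ringHom_ext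
  · intro r
    simp
  · intro i
    simp

theorem toLine_injective {X : Scheme.{u}} : Function.Injective (toLine (X := X)) := by
  intro s t h
  rw [← toLine_appTop s, h, toLine_appTop t]

theorem appTop_injective_of_epi {X Y : Scheme.{u}} (f : X ⟶ Y) [Epi f] :
    Function.Injective f.appTop := by
  intro s t h
  refine toLine_injective ((cancel_epi f).mp ?_)
  rw [comp_toLine, comp_toLine, h]

theorem exists_appTop_eq {X Y : Scheme.{u}} (f : X ⟶ Y) [EffectiveEpi f] (s : Γ(X, ⊤))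
    (h : (pullback.fst f f).appTop s = (pullback.snd f f).appTop s) :
    ∃ t : Γ(Y, ⊤), f.appTop t = s := by
  have hc : ∀ {Z : Scheme.{u}} (g₁ g₂ : Z ⟶ X), g₁ ≫ f = g₂ ≫ f → g₁ ≫ toLine s = g₂ ≫ toLine s := by
    intro Z g₁ g₂ hg
    have e : pullback.fst f f ≫ toLine s = pullback.snd f f ≫ toLine s := by
      rw [comp_toLine, comp_toLine, h]
    rw [← pullback.lift_fst g₁ g₂ hg, Category.assoc, e, pullback.lift_snd_assoc]
  refine ⟨(EffectiveEpi.desc f (toLine s) hc).appTop
    ((Scheme.ΓSpecIso lineRing).inv (MvPolynomial.X PUnit.unit)), ?_⟩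
  rw [← CommRingCat.comp_apply, ← Scheme.Hom.comp_appTop, EffectiveEpi.fac, toLine_appTop]

theorem opens_ι_appLE {X : Scheme.{u}} (V : X.Opens) :
    V.ι.appLE V ⊤ (by simp) = V.topIso.inv := by
  simp [Scheme.Hom.appLE, Scheme.Opens.topIso]
  exact (X.presheaf.map_comp _ _).symm

theorem appTop_eq_appLE {X Y : Scheme.{u}} (f : X ⟶ Y) : f.appTop = f.appLE ⊤ ⊤ le_top := by
  simp [Scheme.Hom.appTop, Scheme.Hom.appLE]

theorem morphismRestrict_appTop_topIso {X Y : Scheme.{u}} (f : X ⟶ Y) (U : Y.Opens) :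
    U.topIso.inv ≫ (f ∣_ U).appTop = f.app U ≫ (f ⁻¹ᵁ U).topIso.inv := by
  rw [← opens_ι_appLE, ← opens_ι_appLE, appTop_eq_appLE, Scheme.Hom.app_eq_appLE,
    Scheme.Hom.appLE_comp_appLE, Scheme.Hom.appLE_comp_appLE]
  simp only [morphismRestrict_ι]

variable {X Y : Scheme.{u}} (f : X ⟶ Y) [Flat f] [Surjective f] [QuasiCompact f]

omit [Flat f] [Surjective f] [QuasiCompact f] in
theorem app_injective_of_epi_restrict (U : Y.Opens) [Epi (f ∣_ U)] : Function.Injective (f.app U) := by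
  intro s t h
  have : (f ∣_ U).appTop (U.topIso.inv s) = (f ∣_ U).appTop (U.topIso.inv t) := by
    rw [← CommRingCat.comp_apply, ← CommRingCat.comp_apply, morphismRestrict_appTop_topIso,
      CommRingCat.comp_apply, CommRingCat.comp_apply, h]
  exact U.topIso.commRingCatIsoToRingEquiv.symm.injective (appTop_injective_of_epi _ this)

instance flat_restrict_effectiveEpi (U : Y.Opens) : EffectiveEpi (f ∣_ U) :=
  haveI : Flat (f ∣_ U) := IsZariskiLocalAtTarget.restrict ‹Flat f› U
  haveI : Surjective (f ∣_ U) := IsZariskiLocalAtTarget.restrict ‹Surjective f› U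
  haveI : QuasiCompact (f ∣_ U) := IsZariskiLocalAtTarget.restrict ‹QuasiCompact f› U
  inferInstance

theorem app_injective_of_flat_surjective (U : Y.Opens) : Function.Injective (f.app U) :=
  app_injective_of_epi_restrict f U

/-- A section over `f ⁻¹ U` with equal pullbacks under all pairs of points with the same image
comes from `U`. -/
theorem exists_app_eq (U : Y.Opens) (s : Γ(X, f ⁻¹ᵁ U))
    (h : ∀ {T : Scheme.{u}} (a b : T ⟶ X), a ≫ f = b ≫ f → ∀ (ha : ⊤ ≤ a ⁻¹ᵁ (f ⁻¹ᵁ U))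
      (hb : ⊤ ≤ b ⁻¹ᵁ (f ⁻¹ᵁ U)), a.appLE _ ⊤ ha s = b.appLE _ ⊤ hb s) :
    ∃ t : Γ(Y, U), f.app U t = s := by
  obtain ⟨t', ht'⟩ := exists_appTop_eq (f ∣_ U) ((f ⁻¹ᵁ U).topIso.inv s) (by
    rw [← opens_ι_appLE, ← CommRingCat.comp_apply, ← CommRingCat.comp_apply, appTop_eq_appLE,
      appTop_eq_appLE,
      Scheme.Hom.appLE_comp_appLE, Scheme.Hom.appLE_comp_appLE]
    refine h _ _ ?_ _ _
    simp only [Category.assoc, ← morphismRestrict_ι, pullback.condition_assoc])
  refine ⟨U.topIso.hom t', ?_⟩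
  apply (f ⁻¹ᵁ U).topIso.commRingCatIsoToRingEquiv.symm.injective
  show (f ⁻¹ᵁ U).topIso.inv (f.app U (U.topIso.hom t')) = (f ⁻¹ᵁ U).topIso.inv s
  rw [← ht', ← CommRingCat.comp_apply (f.app U), ← morphismRestrict_appTop_topIso,
    CommRingCat.comp_apply, ← CommRingCat.comp_apply U.topIso.hom, Iso.hom_inv_id]
  simp

end Groth.Agent.H98EqInt
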