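import Groth.Prelude.Def_W4bk4git07Quot
import Groth.Agent.H98EqInt.Sections
import Mathlib.AlgebraicGeometry.Morphisms.UniversallyOpen
import Mathlib.AlgebraicGeometry.Morphisms.LocalFlatDescent
import Mathlib.AlgebraicGeometry.Morphisms.Immersion

/-!
Geometric quotients: universal openness, invariant sections, principal bundles, descent.
-/

set_option autoImplicit false
set_option maxHeartbeats 400000

universe u

open CategoryTheory Limits MonoidalCategory CartesianMonoidalCategory AlgebraicGeometry Topology

namespace Groth.Agent.H98EqInt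

theorem universallyOpen_of_surjective_pairs {R X Y : Scheme.{u}} (f : X ⟶ Y) (s t : R ⟶ X)
    (h : s ≫ f = t ≫ f) [Surjective (pullback.lift s t h)] [UniversallyOpen t]
    (hq : GIT.IsUnivSubmersive f) : UniversallyOpen f := by
  refine ⟨fun X' Y' i₁ i₂ f' H => ?_⟩
  intro U hU
  have hqm : IsQuotientMap f'.base := hq i₁ i₂ f' H
  rw [← hqm.isOpen_preimage]
  let s' : pullback t i₁ ⟶ X' := H.lift (pullback.snd t i₁ ≫ f') (pullback.fst t i₁ ≫ s) (by
    rw [Category.assoc, Category.assoc, H.w, ← pullback.condition_assoc, h])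
  have hs' : s' ≫ f' = pullback.snd t i₁ ≫ f' := H.lift_fst _ _ _
  suffices e : f'.base ⁻¹' (f'.base '' U) = (pullback.snd t i₁).base '' (s'.base ⁻¹' U) by
    rw [e]
    exact (pullback.snd t i₁).isOpenMap _ (hU.preimage s'.continuous)
  ext x'
  constructor
  · rintro ⟨x, hx, hxx⟩
    obtain ⟨z, hz1, hz2⟩ := Scheme.Pullback.exists_preimage_pullback x x' hxx
    let j : pullback f' f' ⟶ pullback f f := pullback.map f' f' f f i₁ i₁ i₂ H.w H.w
    obtain ⟨w, hw⟩ := (pullback.snd (pullback.lift s t h) j).surjective z
    let W : pullback (pullback.lift s t h) j ⟶ pullback t i₁ :=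
      pullback.lift (pullback.fst _ _) (pullback.snd _ _ ≫ pullback.snd f' f') (by
        have := congrArg (fun m => m ≫ pullback.snd f f) (pullback.condition (f := pullback.lift s t h) (g := j))
        simp only [Category.assoc, j, pullback.map] at this ⊢
        rw [pullback.lift_snd, pullback.lift_snd] at this
        exact this)
    have hW : W ≫ s' = pullback.snd (pullback.lift s t h) j ≫ pullback.fst f' f' := by
      apply H.hom_ext
      · rw [Category.assoc, hs', Category.assoc, pullback.lift_snd_assoc, Category.assoc, ← pullback.condition]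
      · rw [Category.assoc, H.lift_snd, ← Category.assoc, pullback.lift_fst]
        have := congrArg (fun m => m ≫ pullback.fst f f) (pullback.condition (f := pullback.lift s t h) (g := j))
        simp only [Category.assoc, j, pullback.map] at this ⊢
        rw [pullback.lift_fst, pullback.lift_fst] at this
        exact this
    refine ⟨W.base w, ?_, ?_⟩
    · show s'.base (W.base w) ∈ U
      rw [← Scheme.Hom.comp_apply, hW, Scheme.Hom.comp_apply]
      convert hx
      exact (congrArg _ hw).trans hz1
    · rw [← Scheme.Hom.comp_apply, pullback.lift_snd, Scheme.Hom.comp_apply]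
      exact (congrArg _ hw).trans hz2
  · rintro ⟨r, hr, rfl⟩
    exact ⟨s'.base r, hr, by rw [← Scheme.Hom.comp_apply, hs', Scheme.Hom.comp_apply]⟩

section Field

variable {k : Type u} [Field k] {G X Y : Over (Spec (CommRingCat.of k))}

theorem snd_left_universallyOpen [LocallyOfFiniteType G.hom] :
    UniversallyOpen (snd G X).left := by
  have : UniversallyOpen G.hom := inferInstance
  exact UniversallyOpen.snd G.hom X.hom

theorem universallyOpen_of_isGeomQuot [GrpObj G] [LocallyOfFiniteType G.hom]
    (a : AlgGrp.Action G X) (φ : X ⟶ Y) (h : GIT.IsGeomQuot a φ) : UniversallyOpen φ.left :=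
  haveI := snd_left_universallyOpen (G := G) (X := X)
  haveI : Surjective (pullback.lift a.act.left (snd G X).left h.inv.left) := ⟨h.orbit⟩
  universallyOpen_of_surjective_pairs φ.left _ _ h.inv.left h.subm

end Field

section Sections

variable {S : Scheme.{u}} {G X Y : Over S} [GrpObj G] {a : AlgGrp.Action G X} {φ : X ⟶ Y}

theorem isInvSection_app (h : GIT.IsInvariant a φ) (U : Y.left.Opens) (t : Γ(Y.left, U)) :
    GIT.IsInvSection a φ U (φ.left.app U t) := by
  rw [GIT.IsInvSection, Scheme.Hom.app_eq_appLE, ← CommRingCat.comp_apply, ← CommRingCat.comp_apply,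
    Scheme.Hom.appLE_comp_appLE, Scheme.Hom.appLE_comp_appLE]
  simp only [h.left]

theorem appLE_eq_of_invSection {U : Y.left.Opens} {s : Γ(X.left, φ.left ⁻¹ᵁ U)}
    (hs : GIT.IsInvSection a φ U s) {T : Scheme.{u}} (r : T ⟶ (G ⊗ X).left) (p q : T ⟶ X.left)
    (hp : r ≫ a.act.left = p) (hq : r ≫ (snd G X).left = q) {V : T.Opens}
    (ha : V ≤ p ⁻¹ᵁ (φ.left ⁻¹ᵁ U)) (hb : V ≤ q ⁻¹ᵁ (φ.left ⁻¹ᵁ U)) :
    p.appLE _ V ha s = q.appLE _ V hb s := by
  subst hp hq
  have hle : V ≤ r ⁻¹ᵁ (a.act.left ⁻¹ᵁ (φ.left ⁻¹ᵁ U) ⊓ (snd G X).left ⁻¹ᵁ (φ.left ⁻¹ᵁ U)) :=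
    le_inf ha hb
  rw [← Scheme.Hom.appLE_comp_appLE r a.act.left _ _ _ inf_le_left hle,
    ← Scheme.Hom.appLE_comp_appLE r (snd G X).left _ _ _ inf_le_right hle,
    CommRingCat.comp_apply, CommRingCat.comp_apply, hs]

theorem isGeomQuot_of_principalBundle (hinv : GIT.IsInvariant a φ) [Flat φ.left] [Surjective φ.left]
    [QuasiCompact φ.left] (hcart : IsIso (GIT.PsiY a φ hinv)) : GIT.IsGeomQuot a φ where
  inv := hinv
  surj := φ.left.surjective
  orbit := (GIT.PsiY a φ hinv).surjective
  subm := by
    intro X' Y' i₁ i₂ f' H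
    have : Flat f' := MorphismProperty.of_isPullback (P := @Flat) H.flip ‹_›
    have : Surjective f' := MorphismProperty.of_isPullback (P := @Surjective) H.flip ‹_›
    have : QuasiCompact f' := MorphismProperty.of_isPullback (P := @QuasiCompact) H.flip ‹_›
    exact Flat.isQuotientMap_of_surjective f'
  sections U := by
    refine ⟨app_injective_of_flat_surjective φ.left U, ?_⟩
    ext s
    constructor
    · rintro ⟨t, rfl⟩
      exact isInvSection_app hinv U t
    · intro hs
      refine exists_app_eq φ.left U s fun {T} p q hpq ha hb => ?_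
      refine appLE_eq_of_invSection hs (pullback.lift p q hpq ≫ inv (GIT.PsiY a φ hinv)) p q ?_ ?_ ha hb
      · rw [Category.assoc]
        have : GIT.PsiY a φ hinv ≫ pullback.fst φ.left φ.left = a.act.left := pullback.lift_fst _ _ _
        rw [← this, IsIso.inv_hom_id_assoc, pullback.lift_fst]
      · rw [Category.assoc]
        have : GIT.PsiY a φ hinv ≫ pullback.snd φ.left φ.left = (snd G X).left := pullback.lift_snd _ _ _
        rw [← this, IsIso.inv_hom_id_assoc, pullback.lift_snd]

theorem psi_id_isClosedImmersion (hinv : GIT.IsInvariant a φ) [IsSeparated Y.hom]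
    (hcart : IsIso (GIT.PsiY a φ hinv)) : IsClosedImmersion (GIT.psi a (𝟙 X)).left := by
  have e : (GIT.psi a (𝟙 X)).left = GIT.PsiY a φ hinv ≫
      pullback.map φ.left φ.left X.hom X.hom (𝟙 _) (𝟙 _) Y.hom (by simp) (by simp) := by
    apply pullback.hom_ext
    · simp only [GIT.PsiY, pullback.map, Category.assoc, pullback.lift_fst, Category.comp_id]
      show (GIT.psi a (𝟙 X)).left ≫ (fst X X).left = a.act.left
      rw [← Over.comp_left, GIT.psi, lift_fst, MonoidalCategory.whiskerLeft_id, Category.id_comp]
    · simp only [GIT.PsiY, pullback.map, Category.assoc, pullback.lift_snd, Category.comp_id]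
      show (GIT.psi a (𝟙 X)).left ≫ (snd X X).left = (snd G X).left
      rw [← Over.comp_left, GIT.psi, lift_snd]
  rw [e]
  haveI : IsClosedImmersion (pullback.map φ.left φ.left X.hom X.hom (𝟙 _) (𝟙 _) Y.hom (by simp) (by simp)) := by
    have he : pullback.map φ.left φ.left X.hom X.hom (𝟙 _) (𝟙 _) Y.hom (by simp) (by simp) =
        pullback.mapDesc φ.left φ.left Y.hom ≫
          (pullback.congrHom (Over.w φ) (Over.w φ)).hom := by
      apply pullback.hom_ext <;>
        · simp [pullback.mapDesc, pullback.map]
          repeat (first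
            | erw [pullback.lift_fst] | erw [pullback.lift_snd]
            | erw [pullback.lift_fst_assoc] | erw [pullback.lift_snd_assoc]
            | rfl)
    rw [he]
    infer_instance
  infer_instance

end Sections

end Groth.Agent.H98EqInt
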