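import Groth.Agent.H98EqInt.Quot

/-!
Descent of geometric quotients along flat surjective quasi-compact base change.
-/

set_option autoImplicit false
set_option maxHeartbeats 400000

universe u

open CategoryTheory Limits MonoidalCategory CartesianMonoidalCategory AlgebraicGeometry Topology

namespace Groth.Agent.H98EqInt

theorem appLE_appLE_apply {X Y Z : Scheme.{u}} (f : X ⟶ Y) (g : Y ⟶ Z) {U : Z.Opens} {V : Y.Opens}
    {W : X.Opens} (e₁ : V ≤ g ⁻¹ᵁ U) (e₂ : W ≤ f ⁻¹ᵁ V) (t : Γ(Z, U)) :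
    f.appLE V W e₂ (g.appLE U V e₁ t) = (f ≫ g).appLE U W (e₂.trans (f.preimage_mono e₁)) t := by
  rw [← CommRingCat.comp_apply, Scheme.Hom.appLE_comp_appLE]

theorem appLE_congr_hom {X Y : Scheme.{u}} {f g : X ⟶ Y} (e : f = g) {U : Y.Opens} {V : X.Opens}
    (h : V ≤ f ⁻¹ᵁ U) (t : Γ(Y, U)) : f.appLE U V h t = g.appLE U V (e ▸ h) t := by
  subst e
  rfl

theorem appLE_injective_of_eq {X Y : Scheme.{u}} {f : X ⟶ Y} {U : Y.Opens}
    (hf : Function.Injective (f.app U)) {V : X.Opens} (e : V ≤ f ⁻¹ᵁ U) (e' : V = f ⁻¹ᵁ U) :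
    Function.Injective (f.appLE U V e) := by
  subst e'
  rwa [Scheme.Hom.app_eq_appLE] at hf

theorem isSchDominant_of_app_injective {X Y : Scheme.{u}} (f : X ⟶ Y) [QuasiCompact f]
    (h : ∀ U : Y.Opens, Function.Injective (f.app U)) : IsSchemeTheoreticallyDominant f := by
  constructor
  refine Scheme.IdealSheafData.ext (funext fun U => ?_)
  rw [Scheme.Hom.ker_apply, Scheme.IdealSheafData.ideal_bot, Pi.bot_apply]
  exact (RingHom.injective_iff_ker_eq_bot _).mp (h U)

variable {S : Scheme.{u}} {G X Y X' Y' : Over S} [GrpObj G] {a : AlgGrp.Action G X} {φ : X ⟶ Y}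

theorem isGeomQuot_descend (hinv : GIT.IsInvariant a φ) [QuasiCompact φ.left]
    (α : Y' ⟶ Y) [Flat α.left] [Surjective α.left] [QuasiCompact α.left]
    (pr : X' ⟶ X) (φ' : X' ⟶ Y') (hpb : IsPullback pr φ' φ α)
    (a' : AlgGrp.Action G X') (heq : a'.act ≫ pr = (G ◁ pr) ≫ a.act)
    (h : GIT.IsGeomQuot a' φ') : GIT.IsGeomQuot a φ := by
  have hL : IsPullback pr.left φ'.left φ.left α.left := hpb.map (Over.forget S)
  have hprF : Flat pr.left := MorphismProperty.of_isPullback (P := @Flat) hL.flip ‹_›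
  have hprS : Surjective pr.left := MorphismProperty.of_isPullback (P := @Surjective) hL.flip ‹_›
  have hprQ : QuasiCompact pr.left := MorphismProperty.of_isPullback (P := @QuasiCompact) hL.flip ‹_›
  have hφ'Q : QuasiCompact φ'.left := MorphismProperty.of_isPullback (P := @QuasiCompact) hL ‹_›
  refine ⟨hinv, ?_, ?_, ?_, ?_⟩
  · intro y
    obtain ⟨y', rfl⟩ := α.left.surjective y
    obtain ⟨x', rfl⟩ := h.surj y'
    exact ⟨pr.left.base x', by rw [← Scheme.Hom.comp_apply, hL.w, Scheme.Hom.comp_apply]⟩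
  · intro z
    let q : pullback φ.left φ.left ⟶ Y.left := pullback.fst φ.left φ.left ≫ φ.left
    obtain ⟨y', hy'⟩ := α.left.surjective (q.base z)
    obtain ⟨w, hw, -⟩ := Scheme.Pullback.exists_preimage_pullback (f := q) (g := α.left) z y' hy'.symm
    let u1 : pullback q α.left ⟶ X'.left :=
      hL.lift (pullback.fst q α.left ≫ pullback.fst φ.left φ.left) (pullback.snd q α.left)
        (by rw [Category.assoc]; exact pullback.condition)
    let u2 : pullback q α.left ⟶ X'.left :=
      hL.lift (pullback.fst q α.left ≫ pullback.snd φ.left φ.left) (pullback.snd q α.left)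
        (by rw [Category.assoc, ← pullback.condition (f := φ.left) (g := φ.left)]; exact pullback.condition)
    let W : pullback q α.left ⟶ pullback φ'.left φ'.left :=
      pullback.lift u1 u2 ((hL.lift_snd _ _ _).trans (hL.lift_snd _ _ _).symm)
    obtain ⟨r, hr⟩ := h.orbit (W.base w)
    refine ⟨(G ◁ pr).left.base r, ?_⟩
    let j : pullback φ'.left φ'.left ⟶ pullback φ.left φ.left :=
      pullback.map φ'.left φ'.left φ.left φ.left pr.left pr.left α.left hL.w.symm hL.w.symm
    have hj : GIT.PsiY a' φ' h.inv ≫ j = (G ◁ pr).left ≫ GIT.PsiY a φ hinv := by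
      apply pullback.hom_ext
      · simp only [GIT.PsiY, j, pullback.map, Category.assoc, pullback.lift_fst, pullback.lift_fst_assoc]
        rw [← Over.comp_left, ← Over.comp_left, heq]
      · simp only [GIT.PsiY, j, pullback.map, Category.assoc, pullback.lift_snd, pullback.lift_snd_assoc]
        rw [← Over.comp_left, ← Over.comp_left, whiskerLeft_snd]
    have hWj : W ≫ j = pullback.fst q α.left := by
      apply pullback.hom_ext
      · simp only [W, j, pullback.map, Category.assoc, pullback.lift_fst, pullback.lift_fst_assoc]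
        exact hL.lift_fst _ _ _
      · simp only [W, j, pullback.map, Category.assoc, pullback.lift_snd, pullback.lift_snd_assoc]
        exact hL.lift_fst _ _ _
    rw [← Scheme.Hom.comp_apply, ← hj, Scheme.Hom.comp_apply, hr, ← Scheme.Hom.comp_apply, hWj, hw]
  · intro X₁ Y₁ i₁ i₂ f₁ H
    have hF : Flat (pullback.fst i₂ α.left) := inferInstance
    have hS : Surjective (pullback.fst i₂ α.left) := inferInstance
    have hQ : QuasiCompact (pullback.fst i₂ α.left) := inferInstance
    have hbig := (IsPullback.of_hasPullback f₁ (pullback.fst i₂ α.left)).flip.paste_vert H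
    rw [pullback.condition] at hbig
    let q : pullback f₁ (pullback.fst i₂ α.left) ⟶ X'.left :=
      hL.lift (pullback.fst f₁ _ ≫ i₁) (pullback.snd f₁ _ ≫ pullback.snd i₂ α.left)
        (by rw [Category.assoc, Category.assoc, ← H.w, pullback.condition_assoc, pullback.condition])
    have hq : q ≫ pr.left = pullback.fst f₁ _ ≫ i₁ := hL.lift_fst _ _ _
    rw [← hq] at hbig
    have htop := IsPullback.of_bot hbig (hL.lift_snd _ _ _).symm hL.flip
    have h1 : IsQuotientMap (pullback.snd f₁ (pullback.fst i₂ α.left)).base := h.subm _ _ _ htop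
    have h2 : IsQuotientMap ((pullback.snd f₁ (pullback.fst i₂ α.left)) ≫ pullback.fst i₂ α.left).base :=
      (Flat.isQuotientMap_of_surjective (pullback.fst i₂ α.left)).comp h1
    rw [← pullback.condition] at h2
    exact IsQuotientMap.of_comp (pullback.fst f₁ _).continuous f₁.continuous h2
  · intro U
    have hV : φ'.left ⁻¹ᵁ (α.left ⁻¹ᵁ U) = pr.left ⁻¹ᵁ (φ.left ⁻¹ᵁ U) := by
      rw [← Scheme.Hom.comp_preimage, ← Scheme.Hom.comp_preimage, hL.w]
    have hinj := appLE_injective_of_eq (app_injective_of_flat_surjective pr.left (φ.left ⁻¹ᵁ U)) hV.le hV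
    have hpull : ∀ t : Γ(Y.left, U),
        pr.left.appLE (φ.left ⁻¹ᵁ U) (φ'.left ⁻¹ᵁ (α.left ⁻¹ᵁ U)) hV.le (φ.left.app U t) =
          φ'.left.app (α.left ⁻¹ᵁ U) (α.left.app U t) := by
      intro t
      rw [Scheme.Hom.app_eq_appLE, Scheme.Hom.app_eq_appLE, Scheme.Hom.app_eq_appLE, appLE_appLE_apply,
        appLE_appLE_apply]
      exact appLE_congr_hom hL.w _ _
    refine ⟨fun t₁ t₂ ht => ?_, ?_⟩
    · refine app_injective_of_flat_surjective α.left U ((h.sections _).1 ?_)
      rw [← hpull, ← hpull, ht]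
    ext s
    constructor
    · rintro ⟨t, rfl⟩
      exact isInvSection_app hinv U t
    intro hs
    have hs' : GIT.IsInvSection a' φ' (α.left ⁻¹ᵁ U)
        (pr.left.appLE (φ.left ⁻¹ᵁ U) (φ'.left ⁻¹ᵁ (α.left ⁻¹ᵁ U)) hV.le s) := by
      rw [GIT.IsInvSection, appLE_appLE_apply, appLE_appLE_apply]
      refine appLE_eq_of_invSection hs (G ◁ pr).left _ _ ?_ ?_ _ _
      · rw [← Over.comp_left, ← Over.comp_left, heq]
      · rw [← Over.comp_left, ← Over.comp_left, whiskerLeft_snd]
    obtain ⟨t', ht'⟩ := (Set.ext_iff.mp (h.sections (α.left ⁻¹ᵁ U)).2 _).mpr hs'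
    haveI : IsSchemeTheoreticallyDominant φ'.left :=
      isSchDominant_of_app_injective _ fun V => (h.sections V).1
    have huniv : ∀ (W : (pullback α.left α.left).Opens)
        (ha : W ≤ pullback.fst α.left α.left ⁻¹ᵁ (α.left ⁻¹ᵁ U))
        (hb : W ≤ pullback.snd α.left α.left ⁻¹ᵁ (α.left ⁻¹ᵁ U)),
        (pullback.fst α.left α.left).appLE _ W ha t' = (pullback.snd α.left α.left).appLE _ W hb t' := by
      intro W ha hb
      let p1 := pullback.fst α.left α.left
      let p2 := pullback.snd α.left α.left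
      let Z := pullback φ'.left p1
      let u2 : Z ⟶ X'.left := hL.lift (pullback.fst φ'.left p1 ≫ pr.left) (pullback.snd φ'.left p1 ≫ p2)
        (by
          rw [Category.assoc, Category.assoc, hL.w, pullback.condition_assoc]
          simp only [p1, p2, pullback.condition])
      apply (pullback.snd φ'.left p1).app_injective W
      rw [Scheme.Hom.app_eq_appLE, appLE_appLE_apply, appLE_appLE_apply]
      have e1 : pullback.snd φ'.left p1 ≫ pullback.fst α.left α.left = pullback.fst φ'.left p1 ≫ φ'.left :=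
        pullback.condition.symm
      have e2 : pullback.snd φ'.left p1 ≫ pullback.snd α.left α.left = u2 ≫ φ'.left :=
        (hL.lift_snd _ _ _).symm
      rw [appLE_congr_hom e1, appLE_congr_hom e2]
      have hle1 : pullback.snd φ'.left p1 ⁻¹ᵁ W ≤ pullback.fst φ'.left p1 ⁻¹ᵁ (φ'.left ⁻¹ᵁ (α.left ⁻¹ᵁ U)) := by
        rw [← Scheme.Hom.comp_preimage, ← e1, Scheme.Hom.comp_preimage]
        exact Scheme.Hom.preimage_mono _ ha
      have hle2 : pullback.snd φ'.left p1 ⁻¹ᵁ W ≤ u2 ⁻¹ᵁ (φ'.left ⁻¹ᵁ (α.left ⁻¹ᵁ U)) := by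
        rw [← Scheme.Hom.comp_preimage, ← e2, Scheme.Hom.comp_preimage]
        exact Scheme.Hom.preimage_mono _ hb
      rw [← appLE_appLE_apply (pullback.fst φ'.left p1) φ'.left le_rfl hle1,
        ← appLE_appLE_apply u2 φ'.left le_rfl hle2, ← Scheme.Hom.app_eq_appLE, ht', appLE_appLE_apply,
        appLE_appLE_apply]
      exact (appLE_congr_hom (hL.lift_fst _ _ _) _ _).symm
    obtain ⟨t, ht⟩ := exists_app_eq α.left U t' fun {T} p q hpq ha hb => by
      have hle : ⊤ ≤ pullback.lift p q hpq ⁻¹ᵁ (pullback.fst α.left α.left ⁻¹ᵁ (α.left ⁻¹ᵁ U) ⊓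
          pullback.snd α.left α.left ⁻¹ᵁ (α.left ⁻¹ᵁ U)) := by
        rw [Scheme.Hom.preimage_inf]
        refine le_inf ?_ ?_
        · show ⊤ ≤ pullback.lift p q hpq ⁻¹ᵁ (pullback.fst α.left α.left ⁻¹ᵁ (α.left ⁻¹ᵁ U))
          rwa [← Scheme.Hom.comp_preimage, pullback.lift_fst]
        · show ⊤ ≤ pullback.lift p q hpq ⁻¹ᵁ (pullback.snd α.left α.left ⁻¹ᵁ (α.left ⁻¹ᵁ U))
          rwa [← Scheme.Hom.comp_preimage, pullback.lift_snd]
      have key := congrArg ((pullback.lift p q hpq).appLE _ ⊤ hle) (huniv (pullback.fst α.left α.left ⁻¹ᵁ (α.left ⁻¹ᵁ U) ⊓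
          pullback.snd α.left α.left ⁻¹ᵁ (α.left ⁻¹ᵁ U)) inf_le_left inf_le_right)
      rw [appLE_appLE_apply, appLE_appLE_apply] at key
      rwa [appLE_congr_hom (pullback.lift_fst p q hpq), appLE_congr_hom (pullback.lift_snd p q hpq)] at key
    refine ⟨t, hinj ?_⟩
    rw [hpull, ht, ht']

end Groth.Agent.H98EqInt
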