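import Groth.Agent.H98EqInt.Quot
import Groth.Prelude.Def_ChGrp

/-!
Morphisms of principal bundles are cartesian.
-/

set_option autoImplicit false
set_option maxHeartbeats 400000

universe u

open CategoryTheory Limits MonoidalCategory CartesianMonoidalCategory MonObj AlgebraicGeometry

namespace Groth.Agent.H98EqInt

variable {S : Scheme.{u}} {G P Q PG QG : Over S} [GrpObj G]
  {aP : AlgGrp.Action G P} {aQ : AlgGrp.Action G Q} {qP : P ⟶ PG} {qQ : Q ⟶ QG}

theorem psiY_fst (h : GIT.IsInvariant aP qP) :
    GIT.PsiY aP qP h ≫ pullback.fst qP.left qP.left = aP.act.left := pullback.lift_fst _ _ _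

theorem psiY_snd (h : GIT.IsInvariant aP qP) :
    GIT.PsiY aP qP h ≫ pullback.snd qP.left qP.left = (snd G P).left := pullback.lift_snd _ _ _

theorem torsor_hom_isPullback (F : P ⟶ Q) (hF : aP.act ≫ F = (G ◁ F) ≫ aQ.act)
    (hqP : GIT.IsInvariant aP qP) (hqQ : GIT.IsInvariant aQ qQ)
    [Flat qP.left] [Surjective qP.left] [QuasiCompact qP.left]
    [IsIso (GIT.PsiY aP qP hqP)] [IsIso (GIT.PsiY aQ qQ hqQ)]
    (fG : PG ⟶ QG) (hfG : qP ≫ fG = F ≫ qQ) :
    IsPullback F.left qP.left qQ.left fG.left := by
  have hw : F.left ≫ qQ.left = qP.left ≫ fG.left := by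
    rw [← Over.comp_left, ← Over.comp_left, hfG]
  have hFact : (G ◁ F).left ≫ aQ.act.left = aP.act.left ≫ F.left := by
    rw [← Over.comp_left, ← Over.comp_left, hF]
  have hFsnd : (G ◁ F).left ≫ (snd G Q).left = (snd G P).left ≫ F.left := by
    rw [← Over.comp_left, ← Over.comp_left, whiskerLeft_snd]
  have hFfst : (G ◁ F).left ≫ (fst G Q).left = (fst G P).left := by
    rw [← Over.comp_left, whiskerLeft_fst]
  let m : P.left ⟶ pullback qQ.left fG.left := pullback.lift F.left qP.left hw
  have hmono : Mono m := by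
    refine ⟨fun {T} p₁ p₂ h => ?_⟩
    have hq : p₁ ≫ qP.left = p₂ ≫ qP.left := by
      have e := congrArg (fun e => e ≫ pullback.snd qQ.left fG.left) h
      simp only [m, Category.assoc] at e
      rw [pullback.lift_snd] at e
      exact e
    have hf : p₁ ≫ F.left = p₂ ≫ F.left := by
      have e := congrArg (fun e => e ≫ pullback.fst qQ.left fG.left) h
      simp only [m, Category.assoc] at e
      rw [pullback.lift_fst] at e
      exact e
    let r : T ⟶ (G ⊗ P).left := pullback.lift p₁ p₂ hq ≫ inv (GIT.PsiY aP qP hqP)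
    have hr1 : r ≫ aP.act.left = p₁ := by
      rw [← psiY_fst hqP, Category.assoc, IsIso.inv_hom_id_assoc, pullback.lift_fst]
    have hr2 : r ≫ (snd G P).left = p₂ := by
      rw [← psiY_snd hqP, Category.assoc, IsIso.inv_hom_id_assoc, pullback.lift_snd]
    let r₀ : T ⟶ (G ⊗ P).left := p₂ ≫ ((λ_ P).inv ≫ η[G] ▷ P).left
    have hr01 : r₀ ≫ aP.act.left = p₂ := by
      rw [Category.assoc, ← Over.comp_left, Category.assoc, aP.one_act, Iso.inv_hom_id, Over.id_left,
        Category.comp_id]
    have hr02 : r₀ ≫ (snd G P).left = p₂ := by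
      rw [Category.assoc, ← Over.comp_left, Category.assoc, whiskerRight_snd, leftUnitor_inv_snd,
        Over.id_left, Category.comp_id]
    have he : r ≫ (G ◁ F).left = r₀ ≫ (G ◁ F).left := by
      rw [← cancel_mono (GIT.PsiY aQ qQ hqQ)]
      apply pullback.hom_ext
      · simp only [Category.assoc]
        rw [psiY_fst, hFact, ← Category.assoc, hr1, ← Category.assoc, hr01, hf]
      · simp only [Category.assoc]
        rw [psiY_snd, hFsnd, ← Category.assoc, hr2, ← Category.assoc, hr02]
    have heq : r = r₀ := by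
      apply pullback.hom_ext
      · have := congrArg (fun e => e ≫ (fst G Q).left) he
        simp only [Category.assoc, hFfst] at this
        exact this
      · exact hr2.trans hr02.symm
    rw [← hr1, heq, hr01]
  let π : pullback (pullback.snd qQ.left fG.left) qP.left ⟶ pullback qQ.left fG.left :=
    pullback.fst _ _
  haveI : EffectiveEpi π := inferInstance
  let x : pullback (pullback.snd qQ.left fG.left) qP.left ⟶ P.left := pullback.snd _ _
  have hx : π ≫ pullback.snd qQ.left fG.left = x ≫ qP.left := pullback.condition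
  let j : pullback (pullback.snd qQ.left fG.left) qP.left ⟶ pullback qQ.left qQ.left :=
    pullback.lift (π ≫ pullback.fst _ _) (x ≫ F.left) (by
      rw [Category.assoc, pullback.condition, ← Category.assoc, hx, Category.assoc, ← hw, ← Category.assoc])
  let r := j ≫ inv (GIT.PsiY aQ qQ hqQ)
  have hr1 : r ≫ aQ.act.left = π ≫ pullback.fst _ _ := by
    rw [← psiY_fst hqQ, Category.assoc, IsIso.inv_hom_id_assoc, pullback.lift_fst]
  have hr2 : r ≫ (snd G Q).left = x ≫ F.left := by
    rw [← psiY_snd hqQ, Category.assoc, IsIso.inv_hom_id_assoc, pullback.lift_snd]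
  let s : pullback (pullback.snd qQ.left fG.left) qP.left ⟶ (G ⊗ P).left :=
    pullback.lift (r ≫ (fst G Q).left) x (by
      rw [Category.assoc, Over.w (fst G Q)]
      rw [← Over.w (snd G Q), ← Category.assoc, hr2, Category.assoc, Over.w F])
  have hs1 : s ≫ (fst G P).left = r ≫ (fst G Q).left := pullback.lift_fst _ _ _
  have hs2 : s ≫ (snd G P).left = x := pullback.lift_snd _ _ _
  have hsr : s ≫ (G ◁ F).left = r := by
    apply pullback.hom_ext
    · have : (s ≫ (G ◁ F).left) ≫ (fst G Q).left = r ≫ (fst G Q).left := by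
        rw [Category.assoc, hFfst, hs1]
      exact this
    · have : (s ≫ (G ◁ F).left) ≫ (snd G Q).left = r ≫ (snd G Q).left := by
        rw [Category.assoc, hFsnd, ← Category.assoc, hs2, hr2]
      exact this
  let h := s ≫ aP.act.left
  have hh : h ≫ m = π := by
    apply pullback.hom_ext
    · rw [Category.assoc, pullback.lift_fst, Category.assoc, ← hFact, ← Category.assoc, hsr, hr1]
    · rw [Category.assoc, pullback.lift_snd, hx, Category.assoc, ← Over.comp_left, hqP, Over.comp_left,
        ← Category.assoc, hs2]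
  have hc : ∀ {Z : Scheme.{u}} (g₁ g₂ : Z ⟶ _), g₁ ≫ π = g₂ ≫ π → g₁ ≫ h = g₂ ≫ h := by
    intro Z g₁ g₂ hg
    rw [← cancel_mono m, Category.assoc g₁ h m, Category.assoc g₂ h m, hh, hg]
  let n := EffectiveEpi.desc π h hc
  have hn : n ≫ m = 𝟙 _ := by
    rw [← cancel_epi π, ← Category.assoc, EffectiveEpi.fac, hh, Category.comp_id]
  haveI : IsIso m := ⟨n, by rw [← cancel_mono m, Category.assoc, hn, Category.comp_id, Category.id_comp], hn⟩
  exact IsPullback.of_iso_pullback ⟨hw⟩ (asIso m) (pullback.lift_fst _ _ _) (pullback.lift_snd _ _ _)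

theorem whiskerRight_left_isPullback {X Y : Over S} (f : X ⟶ Y) (U : Over S) :
    IsPullback (fst X U).left (f ▷ U).left f.left (fst Y U).left := by
  have h : IsPullback (fst X U).left ((f ▷ U).left ≫ (snd Y U).left) (f.left ≫ Y.hom) U.hom := by
    rw [← Over.comp_left, whiskerRight_snd, Over.w f]
    exact IsPullback.of_hasPullback X.hom U.hom
  exact IsPullback.of_bot h (by rw [← Over.comp_left, ← Over.comp_left, whiskerRight_fst])
    (IsPullback.of_hasPullback Y.hom U.hom)

end Groth.Agent.H98EqInt
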