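import Groth.Agent.H98EqInt.Quot
import Groth.Agent.SGA3a.MonoFibre
import Groth.Agent.AlgGrp79.Act
import Groth.Agent.AlgGrp79.Unram
import Mathlib.AlgebraicGeometry.ZariskisMainTheorem

/-!
Stabilizer schemes: trivial stabilizers and proper action imply free.
-/

set_option autoImplicit false
set_option maxHeartbeats 400000

universe u

open CategoryTheory Limits MonoidalCategory CartesianMonoidalCategory MonObj GrpObj AlgebraicGeometry

namespace Groth.Agent.H98EqInt

variable {S : Scheme.{u}} {G X : Over S} [GrpObj G] (a : AlgGrp.Action G X)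

/-- The stabilizer scheme over `X`. -/
noncomputable abbrev stToX :
    pullback (GIT.psi a (𝟙 X)).left (CartesianMonoidalCategory.lift (𝟙 X) (𝟙 X)).left ⟶ X.left :=
  pullback.snd (GIT.psi a (𝟙 X)).left (CartesianMonoidalCategory.lift (𝟙 X) (𝟙 X)).left

/-- The inclusion of the stabilizer scheme into `G × X`. -/
noncomputable abbrev stIncl :
    pullback (GIT.psi a (𝟙 X)).left (CartesianMonoidalCategory.lift (𝟙 X) (𝟙 X)).left ⟶ (G ⊗ X).left :=
  pullback.fst (GIT.psi a (𝟙 X)).left (CartesianMonoidalCategory.lift (𝟙 X) (𝟙 X)).left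

theorem psi_id_fst : (GIT.psi a (𝟙 X)).left ≫ (fst X X).left = a.act.left := by
  rw [← Over.comp_left, GIT.psi, lift_fst, MonoidalCategory.whiskerLeft_id, Category.id_comp]

theorem psi_id_snd : (GIT.psi a (𝟙 X)).left ≫ (snd X X).left = (snd G X).left := by
  rw [← Over.comp_left, GIT.psi, lift_snd]

omit [GrpObj G] in
theorem diag_fst : (lift (𝟙 X) (𝟙 X)).left ≫ (fst X X).left = 𝟙 X.left := by
  rw [← Over.comp_left, lift_fst, Over.id_left]

omit [GrpObj G] in
theorem diag_snd : (lift (𝟙 X) (𝟙 X)).left ≫ (snd X X).left = 𝟙 X.left := by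
  rw [← Over.comp_left, lift_snd, Over.id_left]

theorem stIncl_act : stIncl a ≫ a.act.left = stToX a := by
  rw [← psi_id_fst, ← Category.assoc, pullback.condition, Category.assoc, diag_fst]
  exact Category.comp_id _

theorem stIncl_snd : stIncl a ≫ (snd G X).left = stToX a := by
  rw [← psi_id_snd a, ← Category.assoc, pullback.condition, Category.assoc, diag_snd]
  exact Category.comp_id _

theorem st_cond {T : Scheme.{u}} (p : T ⟶ (G ⊗ X).left) (b : T ⟶ X.left)
    (h1 : p ≫ a.act.left = b) (h2 : p ≫ (snd G X).left = b) :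
    p ≫ (GIT.psi a (𝟙 X)).left = b ≫ (lift (𝟙 X) (𝟙 X)).left := by
  apply pullback.hom_ext
  · show (p ≫ (GIT.psi a (𝟙 X)).left) ≫ (fst X X).left = (b ≫ (lift (𝟙 X) (𝟙 X)).left) ≫ (fst X X).left
    rw [Category.assoc, Category.assoc, psi_id_fst, diag_fst, h1, Category.comp_id]
  · show (p ≫ (GIT.psi a (𝟙 X)).left) ≫ (snd X X).left = (b ≫ (lift (𝟙 X) (𝟙 X)).left) ≫ (snd X X).left
    rw [Category.assoc, Category.assoc, psi_id_snd, diag_snd, h2, Category.comp_id]

/-- If the stabilizer scheme is trivial then `(σ, p₂)` is a monomorphism. -/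
theorem mono_psi_of_mono_stToX (h : Mono (stToX a)) : Mono (GIT.psi a (𝟙 X)).left := by
  suffices Mono (GIT.psi a (𝟙 X)) from (Over.forget S).map_mono (GIT.psi a (𝟙 X))
  refine ⟨fun {T} p q hpq => ?_⟩
  have hpsi : GIT.psi a (𝟙 X) = lift a.act (snd G X) := by
    rw [GIT.psi, MonoidalCategory.whiskerLeft_id, Category.id_comp]
  rw [hpsi] at hpq
  have h1 : p ≫ a.act = q ≫ a.act := by
    simpa [Category.assoc] using congrArg (fun e => e ≫ fst X X) hpq
  have h2 : p ≫ snd G X = q ≫ snd G X := by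
    simpa [Category.assoc] using congrArg (fun e => e ≫ snd X X) hpq
  set x := p ≫ snd G X with hx
  set g := p ≫ fst G X with hg
  set g' := q ≫ fst G X with hg'
  have hp : lift g x = p := by rw [hg, hx, ← comp_lift, lift_fst_snd, Category.comp_id]
  have hq : lift g' x = q := by rw [hg', h2, ← comp_lift, lift_fst_snd, Category.comp_id]
  have hfix : lift (g'⁻¹ * g) x ≫ a.act = x := by
    rw [AlgGrp79.mul_act', hp, h1, ← hq, AlgGrp79.inv_act_act]
  have hone : lift (1 : T ⟶ G) x ≫ a.act = x := AlgGrp79.one_act' a x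
  have key : ∀ (w : T ⟶ G), lift w x ≫ a.act = x →
      (lift w x).left ≫ a.act.left = x.left ∧ (lift w x).left ≫ (snd G X).left = x.left := fun w hw =>
    ⟨by rw [← Over.comp_left, hw], by rw [← Over.comp_left, lift_snd]⟩
  have hA := key _ hfix
  have hB := key _ hone
  have : (lift (g'⁻¹ * g) x).left = (lift (1 : T ⟶ G) x).left := by
    have e : pullback.lift (lift (g'⁻¹ * g) x).left x.left (st_cond a _ _ hA.1 hA.2) =
        pullback.lift (lift (1 : T ⟶ G) x).left x.left (st_cond a _ _ hB.1 hB.2) := by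
      rw [← cancel_mono (stToX a), pullback.lift_snd, pullback.lift_snd]
    rw [← pullback.lift_fst _ _ (st_cond a _ _ hA.1 hA.2), e, pullback.lift_fst]
  have hgg : g'⁻¹ * g = 1 := by
    have := congrArg (fun e => e ≫ fst G X) (Over.OverMorphism.ext this)
    simpa using this
  rw [← hp, ← hq, inv_mul_eq_one.mp hgg]

theorem mono_stToX_of_fibres [LocallyOfFiniteType (stToX a)]
    (h : ∀ x, IsIso ((stToX a).fiberToSpecResidueField x)) : Mono (stToX a) :=
  SGA3a.mono_of_monoFields (SGA3a.monoFields_of_fibres _ fun x => haveI := h x; inferInstance)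

theorem isClosedImmersion_psi_of_mono [IsProper (GIT.psi a (𝟙 X)).left]
    (h : Mono (stToX a)) : IsClosedImmersion (GIT.psi a (𝟙 X)).left := by
  rw [IsClosedImmersion.eq_proper_inf_monomorphisms]
  exact ⟨inferInstance, mono_psi_of_mono_stToX a h⟩

theorem psi_locallyOfFiniteType [LocallyOfFiniteType G.hom] [LocallyOfFiniteType X.hom] :
    LocallyOfFiniteType (GIT.psi a (𝟙 X)).left := by
  haveI : LocallyOfFiniteType (G ⊗ X).hom :=
    inferInstanceAs (LocallyOfFiniteType (pullback.fst G.hom X.hom ≫ G.hom))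
  haveI : LocallyOfFiniteType ((GIT.psi a (𝟙 X)).left ≫ (X ⊗ X).hom) := by
    rw [Over.w (GIT.psi a (𝟙 X))]; infer_instance
  exact locallyOfFiniteType_of_comp (GIT.psi a (𝟙 X)).left (X ⊗ X).hom

end Groth.Agent.H98EqInt
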