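import Groth.Agent.H98EqInt.Stab
import Groth.Agent.Cartier57.Reduced
import Groth.Agent.WC97.Reduced
import Groth.Agent.Unr57.FieldSum

/-!
The stabilizer of a point as a group scheme over its residue field; set-theoretically free versus
geometrically free actions.
-/

set_option autoImplicit false
set_option maxHeartbeats 400000

universe u

open CategoryTheory Limits MonoidalCategory CartesianMonoidalCategory MonObj GrpObj AlgebraicGeometry Opposite

namespace Groth.Agent.H98EqInt

section Group

variable {S : Scheme.{u}} {G X : Over S} [GrpObj G] (a : AlgGrp.Action G X) (x : X.left)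

/-- The structure map of the residue field of `x` over the base. -/
noncomputable abbrev ptBase : Spec (X.left.residueField x) ⟶ S := X.left.fromSpecResidueField x ≫ X.hom

/-- The point `x` over a scheme over its residue field. -/
noncomputable abbrev ptOver (T : Over (Spec (X.left.residueField x))) :
    (Over.map (ptBase x)).obj T ⟶ X :=
  Over.homMk (T.hom ≫ X.left.fromSpecResidueField x) (Category.assoc _ _ _)

/-- The stabilizer subgroup. -/
noncomputable def stabSub (T : Over (Spec (X.left.residueField x))) :
    Subgroup ((Over.map (ptBase x)).obj T ⟶ G) where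
  carrier := {g | lift g (ptOver x T) ≫ a.act = ptOver x T}
  one_mem' := AlgGrp79.one_act' a _
  mul_mem' := fun {g h} hg hh => by
    show lift (g * h) (ptOver x T) ≫ a.act = ptOver x T
    rw [AlgGrp79.mul_act', hh, hg]
  inv_mem' := fun {g} hg => by
    show lift g⁻¹ (ptOver x T) ≫ a.act = ptOver x T
    conv_lhs => rw [← hg, AlgGrp79.inv_act_act]

theorem stabSub_comp {T T' : Over (Spec (X.left.residueField x))} (f : T' ⟶ T)
    {g : (Over.map (ptBase x)).obj T ⟶ G} (hg : g ∈ stabSub a x T) :
    (Over.map (ptBase x)).map f ≫ g ∈ stabSub a x T' := by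
  show lift ((Over.map (ptBase x)).map f ≫ g) (ptOver x T') ≫ a.act = ptOver x T'
  have e : (Over.map (ptBase x)).map f ≫ ptOver x T = ptOver x T' := by
    apply Over.OverMorphism.ext
    simp [ptOver, Over.w_assoc f]
  rw [← e, ← AlgGrp79.comp_lift_act, show lift g (ptOver x T) ≫ a.act = ptOver x T from hg]

/-- The functor of points of the stabilizer of `x`. -/
noncomputable def stabFunctor : (Over (Spec (X.left.residueField x)))ᵒᵖ ⥤ GrpCat.{u} where
  obj T := GrpCat.of (stabSub a x T.unop)
  map {T T'} f := GrpCat.ofHom
    { toFun := fun g => ⟨(Over.map (ptBase x)).map f.unop ≫ g.1, stabSub_comp a x f.unop g.2⟩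
      map_one' := Subtype.ext (by exact MonObj.comp_one _)
      map_mul' := fun g h => Subtype.ext (by exact MonObj.comp_mul _ _ _) }
  map_id T := GrpCat.hom_ext (MonoidHom.ext fun g => Subtype.ext
    (show (Over.map (ptBase x)).map (𝟙 T.unop) ≫ g.1 = g.1 by
      rw [CategoryTheory.Functor.map_id, Category.id_comp]))
  map_comp {T T' T''} f f' := GrpCat.hom_ext (MonoidHom.ext fun g => Subtype.ext
    (show (Over.map (ptBase x)).map (f'.unop ≫ f.unop) ≫ g.1 =
        (Over.map (ptBase x)).map f'.unop ≫ (Over.map (ptBase x)).map f.unop ≫ g.1 by
      rw [CategoryTheory.Functor.map_comp, Category.assoc]))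

/-- The fibre of the stabilizer scheme at `x`. -/
noncomputable abbrev stFibre : Over (Spec (X.left.residueField x)) :=
  Over.mk ((stToX a).fiberToSpecResidueField x)

theorem stFibre_snd :
    pullback.fst (stToX a) (X.left.fromSpecResidueField x) ≫ stIncl a ≫ (snd G X).left =
      (stToX a).fiberToSpecResidueField x ≫ X.left.fromSpecResidueField x := by
  rw [stIncl_snd]
  exact pullback.condition

theorem stFibre_act :
    pullback.fst (stToX a) (X.left.fromSpecResidueField x) ≫ stIncl a ≫ a.act.left =
      (stToX a).fiberToSpecResidueField x ≫ X.left.fromSpecResidueField x := by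
  rw [stIncl_act]
  exact pullback.condition

variable {x} in
theorem comp_stFibre_snd {T : Over (Spec (X.left.residueField x))} (f : T ⟶ stFibre a x) :
    f.left ≫ pullback.fst (stToX a) (X.left.fromSpecResidueField x) ≫ stIncl a ≫ (snd G X).left =
      T.hom ≫ X.left.fromSpecResidueField x := by
  rw [← Over.w f]
  exact (congrArg (fun m => f.left ≫ m) (stFibre_snd a x)).trans (Category.assoc _ _ _).symm

variable {x} in
theorem comp_stFibre_act {T : Over (Spec (X.left.residueField x))} (f : T ⟶ stFibre a x) :
    f.left ≫ pullback.fst (stToX a) (X.left.fromSpecResidueField x) ≫ stIncl a ≫ a.act.left =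
      T.hom ≫ X.left.fromSpecResidueField x := by
  rw [← Over.w f]
  exact (congrArg (fun m => f.left ≫ m) (stFibre_act a x)).trans (Category.assoc _ _ _).symm

variable {x} in
/-- From a point of the fibre to an element of the stabilizer group. -/
noncomputable def toElt {T : Over (Spec (X.left.residueField x))} (f : T ⟶ stFibre a x) :
    (Over.map (ptBase x)).obj T ⟶ G :=
  Over.homMk (f.left ≫ pullback.fst (stToX a) (X.left.fromSpecResidueField x) ≫ stIncl a ≫ (fst G X).left) (by
    show _ = T.hom ≫ ptBase x
    have e := congrArg (fun m => m ≫ X.hom) (comp_stFibre_snd a f)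
    simp only [Category.assoc] at e ⊢
    rw [Over.w (fst G X), ← Over.w (snd G X)]
    exact e)

variable {x} in
theorem lift_toElt {T : Over (Spec (X.left.residueField x))} (f : T ⟶ stFibre a x) :
    (lift (toElt a f) (ptOver x T)).left =
      f.left ≫ pullback.fst (stToX a) (X.left.fromSpecResidueField x) ≫ stIncl a := by
  apply pullback.hom_ext
  · have e : (lift (toElt a f) (ptOver x T)).left ≫ (fst G X).left =
        (f.left ≫ pullback.fst (stToX a) (X.left.fromSpecResidueField x) ≫ stIncl a) ≫ (fst G X).left := by
      rw [← Over.comp_left, lift_fst]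
      simp [toElt]
    exact e
  · have e : (lift (toElt a f) (ptOver x T)).left ≫ (snd G X).left =
        (f.left ≫ pullback.fst (stToX a) (X.left.fromSpecResidueField x) ≫ stIncl a) ≫ (snd G X).left := by
      rw [← Over.comp_left, lift_snd, Category.assoc, Category.assoc]
      exact (comp_stFibre_snd a f).symm
    exact e

variable {x} in
theorem toElt_mem {T : Over (Spec (X.left.residueField x))} (f : T ⟶ stFibre a x) :
    toElt a f ∈ stabSub a x T := by
  apply Over.OverMorphism.ext
  rw [Over.comp_left, lift_toElt, Category.assoc, Category.assoc]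
  exact comp_stFibre_act a f

variable {x} in
theorem elt_cond {T : Over (Spec (X.left.residueField x))} (g : stabSub a x T) :
    (lift g.1 (ptOver x T)).left ≫ a.act.left = (ptOver x T).left ∧
      (lift g.1 (ptOver x T)).left ≫ (snd G X).left = (ptOver x T).left :=
  ⟨by rw [← Over.comp_left]; exact congrArg Over.Hom.left g.2, by rw [← Over.comp_left, lift_snd]⟩

variable {x} in
/-- From an element of the stabilizer group to a point of the fibre. -/
noncomputable def ofElt {T : Over (Spec (X.left.residueField x))} (g : stabSub a x T) : T ⟶ stFibre a x :=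
  Over.homMk (pullback.lift (pullback.lift (lift g.1 (ptOver x T)).left (ptOver x T).left
      (st_cond a _ _ (elt_cond a g).1 (elt_cond a g).2)) T.hom (pullback.lift_snd _ _ _))
    (pullback.lift_snd _ _ _)

variable {x} in
theorem toElt_ofElt {T : Over (Spec (X.left.residueField x))} (g : stabSub a x T) :
    toElt a (ofElt a g) = g.1 := by
  apply Over.OverMorphism.ext
  simp only [toElt, ofElt, Over.homMk_left]
  erw [pullback.lift_fst_assoc, pullback.lift_fst_assoc]
  rw [← Over.comp_left, lift_fst]

variable {x} in
theorem toElt_comp {T T' : Over (Spec (X.left.residueField x))} (f : T ⟶ T') (h : T' ⟶ stFibre a x) :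
    toElt a (f ≫ h) = (Over.map (ptBase x)).map f ≫ toElt a h := by
  apply Over.OverMorphism.ext
  exact Category.assoc f.left h.left _

/-- The fibre represents the stabilizer functor. -/
noncomputable def stFibreRep : (stabFunctor a x ⋙ forget GrpCat).RepresentableBy (stFibre a x) where
  homEquiv {T} :=
    { toFun := fun f => (⟨toElt a f, toElt_mem a f⟩ : stabSub a x T)
      invFun := fun g => ofElt a g
      left_inv := fun f => by
        apply Over.OverMorphism.ext
        apply pullback.hom_ext
        · apply pullback.hom_ext
          · simp only [ofElt, Over.homMk_left]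
            rw [pullback.lift_fst, pullback.lift_fst, lift_toElt]
            first | rfl | simp [stIncl] | (simp [stIncl]; rfl)
          · simp only [ofElt, Over.homMk_left]
            rw [pullback.lift_fst, pullback.lift_snd]
            show T.hom ≫ _ = _
            rw [← Over.w f, Category.assoc, Category.assoc]
            congr 1
            exact pullback.condition.symm
        · simp only [ofElt, Over.homMk_left]
          rw [pullback.lift_snd]
          exact (Over.w f).symm
      right_inv := fun g => Subtype.ext (toElt_ofElt a g) }
  homEquiv_comp {T T'} f h := Subtype.ext (toElt_comp a f h)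

/-- The group structure of the stabilizer of `x`. -/
@[instance_reducible]
noncomputable def stFibreGrp : GrpObj (stFibre a x) :=
  GrpObj.ofRepresentableBy _ (stabFunctor a x) (stFibreRep a x)

end Group

section Free

variable {k : Type u} [Field k] {G X : Over (Spec (CommRingCat.of k))} [GrpObj G]
  [LocallyOfFiniteType G.hom] [LocallyOfFiniteType X.hom] (a : AlgGrp.Action G X)

theorem stToX_locallyOfFiniteType : LocallyOfFiniteType (stToX a) :=
  haveI := psi_locallyOfFiniteType a
  MorphismProperty.pullback_snd (P := @LocallyOfFiniteType) _ _ inferInstance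

theorem isReduced_stFibre (hG : CharZero k ∨ Etale G.hom) (x : X.left) :
    AlgebraicGeometry.IsReduced (stFibre a x).left := by
  haveI := stToX_locallyOfFiniteType a
  haveI : LocallyOfFiniteType (stFibre a x).hom :=
    MorphismProperty.pullback_snd (P := @LocallyOfFiniteType) (stToX a) (X.left.fromSpecResidueField x)
      inferInstance
  rcases hG with hk | hE
  · obtain ⟨φ, -⟩ := Spec.map_surjective (ptBase x)
    haveI : CharZero (X.left.residueField x) := charZero_of_injective_ringHom φ.hom.injective
    letI := stFibreGrp a x
    haveI : Smooth (stFibre a x).hom :=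
      Cartier57.smooth (K := X.left.residueField x) (stFibre a x)
    exact WC97.isReduced_of_smooth (k := X.left.residueField x) (stFibre a x).hom
  · haveI : Mono ((CartesianMonoidalCategory.lift (𝟙 X) (𝟙 X)).left) :=
      haveI : IsSplitMono (CartesianMonoidalCategory.lift (𝟙 X) (𝟙 X)).left :=
        ⟨⟨(fst X X).left, diag_fst⟩⟩
      inferInstance
    haveI : FormallyUnramified (stIncl a) := inferInstance
    haveI : FormallyUnramified (snd G X).left :=
      MorphismProperty.pullback_snd (P := @FormallyUnramified) G.hom X.hom inferInstance
    haveI : FormallyUnramified (stToX a) := by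
      rw [← stIncl_snd a]
      exact MorphismProperty.comp_mem @FormallyUnramified _ _ inferInstance inferInstance
    haveI : FormallyUnramified (stFibre a x).hom :=
      MorphismProperty.pullback_snd (P := @FormallyUnramified) (stToX a) (X.left.fromSpecResidueField x)
        inferInstance
    exact (Unr57.isReduced_and_discrete (k := X.left.residueField x) (stFibre a x).hom).1

theorem isIso_fibre_of_universallyInjective (hG : CharZero k ∨ Etale G.hom)
    [UniversallyInjective (stToX a)] (x : X.left) :
    IsIso ((stToX a).fiberToSpecResidueField x) := by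
  haveI := stToX_locallyOfFiniteType a
  let Z := stFibre a x
  haveI : UniversallyInjective Z.hom :=
    MorphismProperty.pullback_snd (P := @UniversallyInjective) (stToX a) (X.left.fromSpecResidueField x)
      inferInstance
  haveI := isReduced_stFibre a hG x
  let e : Spec (X.left.residueField x) ⟶ Z.left := (ofElt a (1 : stabSub a x (Over.mk (𝟙 _)))).left
  have he : e ≫ Z.hom = 𝟙 _ := Over.w (ofElt a (1 : stabSub a x (Over.mk (𝟙 _))))
  haveI : Surjective e := ⟨fun z => ⟨Z.hom z, Z.hom.injective (by
    rw [← Scheme.Hom.comp_apply, he]; rfl)⟩⟩
  haveI : IsImmersion (e ≫ Z.hom) := by rw [he]; infer_instance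
  haveI : IsImmersion e := IsImmersion.of_comp e Z.hom
  haveI : IsClosedImmersion e :=
    IsClosedImmersion.of_isPreimmersion e (by rw [e.surjective.range_eq]; exact isClosed_univ)
  haveI : IsIso e := isIso_of_isClosedImmersion_of_surjective e
  show IsIso Z.hom
  have : IsIso (e ≫ Z.hom) := by rw [he]; infer_instance
  exact IsIso.of_isIso_comp_left e Z.hom

theorem universallyInjective_iff (hG : CharZero k ∨ Etale G.hom) :
    UniversallyInjective (stToX a) ↔ ∀ x : X.left, IsIso ((stToX a).fiberToSpecResidueField x) :=
  ⟨fun _ x => isIso_fibre_of_universallyInjective a hG x, fun h =>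
    AlgGrp79.universallyInjective_of_fiber_mono _ fun x => haveI := h x; inferInstance⟩

end Free

end Groth.Agent.H98EqInt
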